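import Groth.Prelude.Def_WeilRes
import Groth.Agent.Lib.MorSAff4.Main
import Groth.Agent.Lib.OverRep16.Glue
import Mathlib.AlgebraicGeometry.PullbackCarrier
import Mathlib.AlgebraicGeometry.Morphisms.Finite
import Mathlib.AlgebraicGeometry.Morphisms.Flat
import Mathlib.AlgebraicGeometry.Morphisms.FinitePresentation
import Mathlib.RingTheory.Flat.EquationalCriterion
import Mathlib.RingTheory.Finiteness.ModuleFinitePresentation
import Mathlib.AlgebraicGeometry.Morphisms.QuasiFinite

/-!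
# Existence of Weil restrictions along finite locally free morphisms
-/

set_option autoImplicit false
set_option linter.style.haveILetI false
set_option backward.isDefEq.respectTransparency.types false

universe u

open CategoryTheory CategoryTheory.Limits AlgebraicGeometry Opposite TopologicalSpace

noncomputable section

namespace Groth.Agent.WeilExist

variable {S S' : Scheme.{u}} (f : S' ⟶ S) (X' : Over S')

theorem bc_map_fst {T T' : Over S} (g : T' ⟶ T) :
    ((Over.pullback f).map g).left ≫ pullback.fst T.hom f = pullback.fst T'.hom f ≫ g.left :=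
  pullback.lift_fst _ _ _

theorem bc_map_snd {T T' : Over S} (g : T' ⟶ T) :
    ((Over.pullback f).map g).left ≫ pullback.snd T.hom f = pullback.snd T'.hom f :=
  pullback.lift_snd _ _ _

theorem functor_map {T T' : Over S} (g : T' ⟶ T) (z : (WeilRes.functor f X').obj (op T)) :
    ((WeilRes.functor f X').map g.op z).left = ((Over.pullback f).map g).left ≫ z.left :=
  rfl

theorem isPullback_bc_map {T T' : Over S} (g : T' ⟶ T) :
    IsPullback (pullback.fst T'.hom f) ((Over.pullback f).map g).left g.left (pullback.fst T.hom f) := by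
  refine IsPullback.of_bot ?_ (bc_map_fst f g).symm (IsPullback.of_hasPullback T.hom f)
  rw [bc_map_snd, Over.w g]
  exact IsPullback.of_hasPullback T'.hom f

theorem lift_map {T T' : Over S} (g : T' ⟶ T) {W : Scheme.{u}} (d : W ⟶ pullback T'.hom f)
    (e : W ⟶ pullback T.hom f) (h₁ : d ≫ pullback.fst T'.hom f ≫ g.left = e ≫ pullback.fst T.hom f)
    (h₂ : d ≫ pullback.snd T'.hom f = e ≫ pullback.snd T.hom f)
    (z : (WeilRes.functor f X').obj (op T)) :
    d ≫ ((WeilRes.functor f X').map g.op z).left = e ≫ z.left := by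
  have he : d ≫ ((Over.pullback f).map g).left = e := by
    apply pullback.hom_ext
    · exact ((Category.assoc _ _ _).trans (congrArg (d ≫ ·) (bc_map_fst f g))).trans h₁
    · exact ((Category.assoc _ _ _).trans (congrArg (d ≫ ·) (bc_map_snd f g))).trans h₂
  rw [← he]
  exact (Category.assoc _ _ _).symm

theorem isZarSheaf : OverRep16.IsZarSheaf (WeilRes.functor f X') := by
  intro T 𝒰 x hx
  let A : 𝒰.I₀ → Scheme.{u} := fun k => pullback (pullback.fst T.hom f) (𝒰.f k)
  let i : ∀ k, A k ⟶ pullback T.hom f := fun k => pullback.fst (pullback.fst T.hom f) (𝒰.f k)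
  let r : ∀ k, A k ⟶ 𝒰.X k := fun k => pullback.snd (pullback.fst T.hom f) (𝒰.f k)
  have hir : ∀ k, i k ≫ pullback.fst T.hom f = r k ≫ 𝒰.f k := fun k => pullback.condition
  let l : ∀ k, A k ⟶ pullback (𝒰.f k ≫ T.hom) f := fun k =>
    pullback.lift (r k) (i k ≫ pullback.snd T.hom f) (by
      rw [← reassoc_of% hir k, pullback.condition, Category.assoc])
  have hl₁ : ∀ k, l k ≫ pullback.fst (𝒰.f k ≫ T.hom) f = r k := fun k => pullback.lift_fst _ _ _
  have hl₂ : ∀ k, l k ≫ pullback.snd (𝒰.f k ≫ T.hom) f = i k ≫ pullback.snd T.hom f := fun k =>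
    pullback.lift_snd _ _ _
  let m : ∀ k, pullback (𝒰.f k ≫ T.hom) f ⟶ pullback T.hom f := fun k =>
    ((Over.pullback f).map (OverRep16.piece 𝒰 k)).left
  have hm₁ : ∀ k, m k ≫ pullback.fst T.hom f = pullback.fst (𝒰.f k ≫ T.hom) f ≫ 𝒰.f k := fun k =>
    bc_map_fst f (OverRep16.piece 𝒰 k)
  have hm₂ : ∀ k, m k ≫ pullback.snd T.hom f = pullback.snd (𝒰.f k ≫ T.hom) f := fun k =>
    bc_map_snd f (OverRep16.piece 𝒰 k)
  have hl : ∀ k, l k ≫ m k = i k := fun k => by
    apply pullback.hom_ext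
    · rw [Category.assoc, hm₁, reassoc_of% hl₁ k, hir]
    · rw [Category.assoc, hm₂, hl₂]
  have hm : ∀ k, ∃ l' : pullback (𝒰.f k ≫ T.hom) f ⟶ A k, l' ≫ i k = m k ∧ l' ≫ l k = 𝟙 _ := fun k => by
    obtain ⟨l', e₁, e₂⟩ : ∃ l' : pullback (𝒰.f k ≫ T.hom) f ⟶ A k,
        l' ≫ i k = m k ∧ l' ≫ r k = pullback.fst (𝒰.f k ≫ T.hom) f :=
      ⟨pullback.lift (m k) (pullback.fst (𝒰.f k ≫ T.hom) f) (hm₁ k), pullback.lift_fst _ _ _,
        pullback.lift_snd _ _ _⟩
    refine ⟨l', e₁, ?_⟩
    apply pullback.hom_ext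
    · rw [Category.assoc, hl₁, e₂, Category.id_comp]
    · rw [Category.assoc, hl₂, reassoc_of% e₁, hm₂, Category.id_comp]
  let φ : ∀ k, A k ⟶ X'.left := fun k => l k ≫ (x k).left
  have hc : ∀ k k', pullback.fst (i k) (i k') ≫ φ k = pullback.snd (i k) (i k') ≫ φ k' := by
    intro k k'
    have hp : (pullback.fst (i k) (i k') ≫ r k) ≫ 𝒰.f k = (pullback.snd (i k) (i k') ≫ r k') ≫ 𝒰.f k' := by
      rw [Category.assoc, Category.assoc, ← hir, ← hir, pullback.condition_assoc]
    let p₁ := pullback.fst (i k) (i k') ≫ r k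
    let p₂ := pullback.snd (i k) (i k') ≫ r k'
    let T' : Over S := Over.mk (p₁ ≫ 𝒰.f k ≫ T.hom)
    let a : T' ⟶ Over.mk (𝒰.f k ≫ T.hom) := Over.homMk p₁ rfl
    let b : T' ⟶ Over.mk (𝒰.f k' ≫ T.hom) := Over.homMk p₂ (by
      show p₂ ≫ 𝒰.f k' ≫ T.hom = p₁ ≫ 𝒰.f k ≫ T.hom
      rw [← Category.assoc, ← hp, Category.assoc])
    have hw : p₁ ≫ 𝒰.f k ≫ T.hom = (pullback.fst (i k) (i k') ≫ i k ≫ pullback.snd T.hom f) ≫ f := by
      show (pullback.fst (i k) (i k') ≫ r k) ≫ 𝒰.f k ≫ T.hom = _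
      rw [Category.assoc, ← reassoc_of% hir k, pullback.condition]
      simp only [Category.assoc]
    obtain ⟨d, hd₁, hd₂⟩ : ∃ d : pullback (i k) (i k') ⟶ pullback (p₁ ≫ 𝒰.f k ≫ T.hom) f,
        d ≫ pullback.fst _ _ = 𝟙 _ ∧
          d ≫ pullback.snd _ _ = pullback.fst (i k) (i k') ≫ i k ≫ pullback.snd T.hom f :=
      ⟨pullback.lift (𝟙 _) _ (by rw [Category.id_comp]; exact hw), pullback.lift_fst _ _ _,
        pullback.lift_snd _ _ _⟩
    have e₁ : d ≫ pullback.fst (p₁ ≫ 𝒰.f k ≫ T.hom) f ≫ p₁ =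
        (pullback.fst (i k) (i k') ≫ l k) ≫ pullback.fst (𝒰.f k ≫ T.hom) f := by
      rw [reassoc_of% hd₁, Category.assoc, hl₁]
    have e₂ : d ≫ pullback.snd (p₁ ≫ 𝒰.f k ≫ T.hom) f =
        (pullback.fst (i k) (i k') ≫ l k) ≫ pullback.snd (𝒰.f k ≫ T.hom) f := by
      rw [hd₂, Category.assoc, hl₂]
    have e₁' : d ≫ pullback.fst (p₁ ≫ 𝒰.f k ≫ T.hom) f ≫ p₂ =
        (pullback.snd (i k) (i k') ≫ l k') ≫ pullback.fst (𝒰.f k' ≫ T.hom) f := by
      rw [reassoc_of% hd₁, Category.assoc, hl₁]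
    have e₂' : d ≫ pullback.snd (p₁ ≫ 𝒰.f k ≫ T.hom) f =
        (pullback.snd (i k) (i k') ≫ l k') ≫ pullback.snd (𝒰.f k' ≫ T.hom) f := by
      rw [hd₂, Category.assoc, hl₂, pullback.condition_assoc]
    have q₁ := lift_map f X' a d (pullback.fst (i k) (i k') ≫ l k) e₁ e₂ (x k)
    have q₂ := lift_map f X' b d (pullback.snd (i k) (i k') ≫ l k') e₁' e₂' (x k')
    rw [hx k k' T' a b hp] at q₁
    exact ((Category.assoc _ _ _).symm.trans (q₁.symm.trans q₂)).trans (Category.assoc _ _ _)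
  let y : pullback T.hom f ⟶ X'.left :=
    Scheme.Cover.glueMorphisms (𝒰.pullback₁ (pullback.fst T.hom f)) φ hc
  have hy : ∀ k, i k ≫ y = l k ≫ (x k).left := fun k =>
    Scheme.Cover.ι_glueMorphisms (𝒰.pullback₁ (pullback.fst T.hom f)) φ hc k
  have hyx : y ≫ X'.hom = pullback.snd T.hom f :=
    Scheme.Cover.hom_ext (𝒰.pullback₁ (pullback.fst T.hom f)) _ _ fun k => by
      show i k ≫ y ≫ X'.hom = i k ≫ pullback.snd T.hom f
      rw [reassoc_of% hy k, ← hl₂ k]
      exact congrArg (l k ≫ ·) (Over.w (x k))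
  refine ⟨Over.homMk y hyx, fun k => Over.OverMorphism.ext ?_, fun z hz => Over.OverMorphism.ext ?_⟩
  · obtain ⟨l', hl', hll⟩ := hm k
    show m k ≫ y = (x k).left
    rw [← hl', Category.assoc, hy, ← Category.assoc, hll, Category.id_comp]
  · refine Scheme.Cover.hom_ext (𝒰.pullback₁ (pullback.fst T.hom f)) _ _ fun k => ?_
    show i k ≫ z.left = i k ≫ y
    rw [hy, ← hl k, Category.assoc]
    exact congrArg (l k ≫ ·) (congrArg CommaMorphism.left (hz k))

/-- Weil restriction of an affine scheme along a finite locally free morphism of affine schemes. -/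
theorem exists_universal_of_affine [IsAffine S] [IsFinite f] [Flat f] [LocallyOfFinitePresentation f]
    [IsAffine X'.left] :
    ∃ (W : Over S) (v : (WeilRes.functor f X').obj (op W)),
      ∀ T : Over S, Function.Bijective fun φ : T ⟶ W => (WeilRes.functor f X').map φ.op v := by
  haveI : IsAffine S' := isAffine_of_isAffineHom f
  have hfree : letI := f.appTop.hom.toAlgebra
      Module.Finite Γ(S, ⊤) Γ(S', ⊤) ∧ Module.Projective Γ(S, ⊤) Γ(S', ⊤) := by
    letI := f.appTop.hom.toAlgebra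
    haveI : Module.Finite Γ(S, ⊤) Γ(S', ⊤) := IsFinite.finite_app f ⊤ (isAffineOpen_top _)
    haveI : Module.Flat Γ(S, ⊤) Γ(S', ⊤) := HasRingHomProperty.appTop @Flat f inferInstance
    haveI : Algebra.FinitePresentation Γ(S, ⊤) Γ(S', ⊤) :=
      HasRingHomProperty.appTop @LocallyOfFinitePresentation f inferInstance
    haveI : Module.FinitePresentation Γ(S, ⊤) Γ(S', ⊤) :=
      Module.FinitePresentation.of_finite_of_finitePresentation _ _
    exact ⟨inferInstance, Module.Flat.projective_of_finitePresentation⟩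
  obtain ⟨A, -, ⟨eA⟩⟩ := MorSAff4.exists_rep f (X'.hom ≫ f) hfree
  obtain ⟨B, -, ⟨eB⟩⟩ := MorSAff4.exists_rep f f hfree
  let u : Over.mk (X'.hom ≫ f) ⟶ Over.mk f := Over.homMk X'.hom rfl
  let w : ∀ T : Over S, (Over.map f).obj ((Over.pullback f).obj T) ⟶ Over.mk f := fun T =>
    Over.homMk (pullback.snd T.hom f) rfl
  let m : A ⟶ B := eB.homEquiv.symm (eA.homEquiv (𝟙 A) ≫ u)
  let t : ∀ T : Over S, T ⟶ Over.mk (𝟙 S) := fun T => Over.homMk T.hom (Category.comp_id _)
  let e : Over.mk (𝟙 S) ⟶ B := eB.homEquiv.symm (w _)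
  have hm : ∀ {T : Over S} (a : T ⟶ A), eB.homEquiv (a ≫ m) = eA.homEquiv a ≫ u := fun {T} a => by
    rw [eB.homEquiv_comp, Equiv.apply_symm_apply, eA.homEquiv_eq a, Flatn.morS_map, Flatn.morS_map]
    exact (Category.assoc _ _ _).symm
  have he : ∀ {T : Over S} (b : T ⟶ Over.mk (𝟙 S)), eB.homEquiv (b ≫ e) = w T := fun {T} b => by
    rw [eB.homEquiv_comp, Equiv.apply_symm_apply]
    exact Over.OverMorphism.ext (bc_map_snd f b)
  let P : Over S := pullback m e
  have hsnd : (eA.homEquiv (pullback.fst m e)).left ≫ X'.hom = pullback.snd P.hom f :=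
    congrArg CommaMorphism.left (show eA.homEquiv (pullback.fst m e) ≫ u = w P by
      rw [← hm, pullback.condition, he])
  let v : (WeilRes.functor f X').obj (op P) := Over.homMk (eA.homEquiv (pullback.fst m e)).left hsnd
  have hv : ∀ {T : Over S} (φ : T ⟶ P),
      ((WeilRes.functor f X').map φ.op v).left = (eA.homEquiv (φ ≫ pullback.fst m e)).left := fun {T} φ => by
    rw [eA.homEquiv_comp]
    rfl
  refine ⟨P, v, fun T => ⟨fun φ φ' h => ?_, fun z => ?_⟩⟩
  · refine pullback.hom_ext (eA.homEquiv.injective (Over.OverMorphism.ext ?_)) (Over.OverMorphism.ext ?_)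
    · rw [← hv, ← hv]
      exact congrArg CommaMorphism.left h
    · have h1 := Over.w (φ ≫ pullback.snd m e)
      have h2 := Over.w (φ' ≫ pullback.snd m e)
      simp only [Over.mk_hom] at h1 h2
      erw [Category.comp_id] at h1 h2
      rw [h1, h2]
  · let zA : (Flatn.morS f (X'.hom ≫ f)).obj (op T) := Over.homMk z.left (by
      show z.left ≫ X'.hom ≫ f = _
      rw [← Category.assoc, Over.w z]
      rfl)
    have hz : eA.homEquiv.symm zA ≫ m = t T ≫ e := eB.homEquiv.injective (by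
      rw [hm, he, Equiv.apply_symm_apply]
      exact Over.OverMorphism.ext (Over.w z))
    refine ⟨pullback.lift _ _ hz, Over.OverMorphism.ext ?_⟩
    rw [hv, pullback.lift_fst, Equiv.apply_symm_apply]
    rfl

variable [IsFinite f] [Flat f] [LocallyOfFinitePresentation f]

/-- The chart given by an affine open of `X'` lying over an affine open of the base. -/
theorem exists_chart {V : S.Opens} (hV : IsAffineOpen V) {U : X'.left.Opens} (hU : IsAffineOpen U)
    (hUV : ∀ x ∈ U, f (X'.hom x) ∈ V) :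
    ∃ C : OverRep16.Chart (WeilRes.functor f X'),
      ∀ (T : Over S) (z : (WeilRes.functor f X').obj (op T)),
        (∀ y, T.hom y ∈ V) → (∀ p, z.left p ∈ U) →
        ∃ h : T ⟶ C.U, (WeilRes.functor f X').map h.op C.Z = z := by
  haveI : IsAffine V.toScheme := hV
  haveI : IsAffine U.toScheme := hU
  let g : (f ⁻¹ᵁ V).toScheme ⟶ V.toScheme := f ∣_ V
  haveI : IsFinite g := IsZariskiLocalAtTarget.restrict ‹IsFinite f› V
  haveI : Flat g := IsZariskiLocalAtTarget.restrict ‹Flat f› V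
  haveI : LocallyOfFinitePresentation g :=
    IsZariskiLocalAtTarget.restrict ‹LocallyOfFinitePresentation f› V
  let u : U.toScheme ⟶ (f ⁻¹ᵁ V).toScheme := IsOpenImmersion.lift (f ⁻¹ᵁ V).ι (U.ι ≫ X'.hom) (by
    rw [Scheme.Opens.range_ι]
    rintro _ ⟨x, rfl⟩
    exact hUV _ x.2)
  have hu : u ≫ (f ⁻¹ᵁ V).ι = U.ι ≫ X'.hom := IsOpenImmersion.lift_fac _ _ _
  haveI : IsAffine (Over.mk u).left := hU
  obtain ⟨W, v, hWv⟩ := exists_universal_of_affine g (Over.mk u)
  let Uc : Over S := Over.mk (W.hom ≫ V.ι)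
  have exd : ∀ (T : Over S) (t : T.left ⟶ V.toScheme), t ≫ V.ι = T.hom →
      ∃ d : pullback t g ⟶ pullback T.hom f, IsIso d ∧ d ≫ pullback.fst _ _ = pullback.fst _ _ ∧
        d ≫ pullback.snd _ _ = pullback.snd _ _ ≫ (f ⁻¹ᵁ V).ι := by
    intro T t ht
    have hpb := (IsPullback.of_hasPullback t g).paste_vert (isPullback_morphismRestrict f V)
    rw [ht] at hpb
    exact ⟨hpb.isoPullback.hom, inferInstance, hpb.isoPullback_hom_fst, hpb.isoPullback_hom_snd⟩
  obtain ⟨cW, hcW, hcW₁, hcW₂⟩ := exd Uc W.hom rfl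
  haveI := hcW
  have hvU : v.left ≫ u = pullback.snd W.hom g := Over.w v
  obtain ⟨zl, hzl⟩ : ∃ zl : pullback Uc.hom f ⟶ X'.left, cW ≫ zl = v.left ≫ U.ι :=
    ⟨inv cW ≫ v.left ≫ U.ι, IsIso.hom_inv_id_assoc cW _⟩
  let Z : (WeilRes.functor f X').obj (op Uc) := Over.homMk zl (by
    show zl ≫ X'.hom = pullback.snd Uc.hom f
    rw [← cancel_epi cW, reassoc_of% hzl, ← hu, reassoc_of% hvU, hcW₂])
  -- comparison of universal sections
  have key : ∀ {T : Over S} (t : T.left ⟶ V.toScheme) (a : Over.mk t ⟶ W) (h : T ⟶ Uc), h.left = a.left →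
      ∀ (d : pullback t g ⟶ pullback T.hom f), d ≫ pullback.fst _ _ = pullback.fst _ _ →
      d ≫ pullback.snd _ _ = pullback.snd _ _ ≫ (f ⁻¹ᵁ V).ι →
      d ≫ ((WeilRes.functor f X').map h.op Z).left =
        ((WeilRes.functor g (Over.mk u)).map a.op v).left ≫ U.ι := by
    intro T t a h hha d hd₁ hd₂
    obtain ⟨a', ha', ha₁, ha₂⟩ : ∃ a' : pullback t g ⟶ pullback W.hom g,
        a' = ((Over.pullback g).map a).left ∧ a' ≫ pullback.fst W.hom g = pullback.fst t g ≫ a.left ∧
          a' ≫ pullback.snd W.hom g = pullback.snd t g :=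
      ⟨_, rfl, bc_map_fst g a, bc_map_snd g a⟩
    rw [lift_map f X' h d (a' ≫ cW) ?_ ?_ Z, functor_map, ← ha']
    · show (a' ≫ cW) ≫ zl = (a' ≫ v.left) ≫ U.ι
      rw [Category.assoc, hzl]
      exact (Category.assoc _ _ _).symm
    · rw [hha, reassoc_of% hd₁, Category.assoc, hcW₁, ha₁]
    · rw [hd₂, Category.assoc, hcW₂, reassoc_of% ha₂]
  have exlift : ∀ (T : Over S) (z : (WeilRes.functor f X').obj (op T)), (∀ y, T.hom y ∈ V) →
      (∀ p, z.left p ∈ U) → ∃ h : T ⟶ Uc, (WeilRes.functor f X').map h.op Z = z := by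
    intro T z hT hz
    let t : T.left ⟶ V.toScheme := IsOpenImmersion.lift V.ι T.hom (by
      rw [Scheme.Opens.range_ι]; rintro _ ⟨y, rfl⟩; exact hT y)
    have ht : t ≫ V.ι = T.hom := IsOpenImmersion.lift_fac _ _ _
    obtain ⟨d, hd, hd₁, hd₂⟩ := exd T t ht
    let bl : pullback t g ⟶ U.toScheme := IsOpenImmersion.lift U.ι (d ≫ z.left) (by
      rw [Scheme.Opens.range_ι]; rintro _ ⟨p, rfl⟩; exact hz _)
    have hbl : bl ≫ U.ι = d ≫ z.left := IsOpenImmersion.lift_fac _ _ _
    let b : (WeilRes.functor g (Over.mk u)).obj (op (Over.mk t)) := Over.homMk bl (by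
      show bl ≫ u = pullback.snd t g
      rw [← cancel_mono (f ⁻¹ᵁ V).ι, Category.assoc, hu, ← Category.assoc, hbl, Category.assoc]
      exact (congrArg (d ≫ ·) (Over.w z)).trans hd₂)
    obtain ⟨a, ha⟩ := (hWv (Over.mk t)).2 b
    let h : T ⟶ Uc := Over.homMk a.left (by
      show a.left ≫ W.hom ≫ V.ι = T.hom
      rw [← Category.assoc, Over.w a]
      exact ht)
    refine ⟨h, Over.OverMorphism.ext ?_⟩
    rw [← cancel_epi d, key t a h rfl d hd₁ hd₂]
    exact (congrArg (· ≫ U.ι) (congrArg CommaMorphism.left ha)).trans hbl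
  have hrange : ∀ {T : Over S} (h : T ⟶ Uc) (p),
      ((WeilRes.functor f X').map h.op Z).left p ∈ U := fun {T} h p => by
    rw [functor_map]
    show zl (((Over.pullback f).map h).left p) ∈ U
    obtain ⟨p', hp'⟩ := cW.surjective (((Over.pullback f).map h).left p)
    rw [← hp', ← Scheme.Hom.comp_apply, hzl]
    exact (v.left p').2
  refine ⟨⟨Uc, Z, fun {T} h h' he => ?_, fun T z => ?_⟩, exlift⟩
  · have hW : h.left ≫ W.hom = h'.left ≫ W.hom := by
      rw [← cancel_mono V.ι, Category.assoc, Category.assoc]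
      exact (Over.w h).trans (Over.w h').symm
    let t : T.left ⟶ V.toScheme := h.left ≫ W.hom
    have ht : t ≫ V.ι = T.hom := (Category.assoc _ _ _).trans (Over.w h)
    let a : Over.mk t ⟶ W := Over.homMk h.left rfl
    let a' : Over.mk t ⟶ W := Over.homMk h'.left hW.symm
    obtain ⟨d, hd, hd₁, hd₂⟩ := exd T t ht
    have : a = a' := (hWv _).1 (Over.OverMorphism.ext (by
      rw [← cancel_mono U.ι]
      exact (key t a h rfl d hd₁ hd₂).symm.trans
        ((congrArg (d ≫ ·) (congrArg CommaMorphism.left he)).trans (key t a' h' rfl d hd₁ hd₂))))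
    exact Over.OverMorphism.ext (congrArg CommaMorphism.left this :)
  · let D : Set T.left := pullback.fst T.hom f '' (z.left ⁻¹' (U : Set X'.left)ᶜ)
    have hD : IsClosed D :=
      (pullback.fst T.hom f).isClosedMap _ (U.2.isClosed_compl.preimage z.left.continuous)
    refine ⟨T.hom ⁻¹ᵁ V ⊓ ⟨Dᶜ, hD.isOpen_compl⟩, fun {T'} q => ⟨fun hq => ?_, ?_⟩⟩
    · refine exlift T' _ (fun y => ?_) fun p => ?_
      · rw [← Over.w q]
        exact (hq y).1
      · rw [functor_map]
        have h1 := (hq (pullback.fst T'.hom f p)).2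
        by_contra hcon
        refine h1 ⟨((Over.pullback f).map q).left p, hcon, ?_⟩
        exact congr($(bc_map_fst f q) p)
    · rintro ⟨h, hh⟩ y
      refine ⟨?_, ?_⟩
      · show T.hom (q.left y) ∈ V
        rw [show T.hom (q.left y) = T'.hom y from congr($(Over.w q) y), ← Over.w h]
        exact (W.hom (h.left y)).2
      · rintro ⟨r, hr, hry⟩
        obtain ⟨p, -, hp⟩ := Scheme.exists_preimage_of_isPullback (isPullback_bc_map f q) y r hry.symm
        apply hr
        have := hrange h p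
        rw [hh, functor_map] at this
        rw [← hp]
        exact this

/-- **Existence of Weil restrictions**: along a finite locally free morphism, if the image of a fibre of a point
always lies in an affine open over an affine open of the base. -/
theorem exists_isWeilRes
    (hX : ∀ (T : Over S) (z : (WeilRes.functor f X').obj (op T)) (t : T.left),
      ∃ (V : S.Opens) (U : X'.left.Opens), IsAffineOpen V ∧ IsAffineOpen U ∧ T.hom t ∈ V ∧
        (∀ x ∈ U, f (X'.hom x) ∈ V) ∧ ∀ p, pullback.fst T.hom f p = t → z.left p ∈ U) :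
    ∃ (R : Over S) (q : Red.bc f R ⟶ X'), WeilRes.IsWeilRes f X' R q := by
  let κ : Type u := {p : S.Opens × X'.left.Opens //
    IsAffineOpen p.1 ∧ IsAffineOpen p.2 ∧ ∀ x ∈ p.2, f (X'.hom x) ∈ p.1}
  choose C hC using fun k : κ => exists_chart f X' k.2.1 k.2.2.1 k.2.2.2
  obtain ⟨R, ⟨e⟩⟩ := OverRep16.representable_of_charts (isZarSheaf f X') C fun T z t => by
    obtain ⟨V, U, hV, hU, hs, hUV, hPU⟩ := hX T z t
    let D : Set T.left := pullback.fst T.hom f '' (z.left ⁻¹' (U : Set X'.left)ᶜ)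
    have hD : IsClosed D :=
      (pullback.fst T.hom f).isClosedMap _ (U.2.isClosed_compl.preimage z.left.continuous)
    let O : T.left.Opens := T.hom ⁻¹ᵁ V ⊓ ⟨Dᶜ, hD.isOpen_compl⟩
    have htO : t ∈ O := ⟨hs, by
      rintro ⟨p, hp, hpt⟩
      exact hp (hPU p hpt)⟩
    let j : Over.mk (O.ι ≫ T.hom) ⟶ T := Over.homMk O.ι rfl
    refine ⟨⟨(V, U), hV, hU, hUV⟩, O, htO, hC _ _ _ (fun y => y.2.1) fun p => ?_⟩
    rw [functor_map]
    by_contra hcon
    refine (pullback.fst (O.ι ≫ T.hom) f p).2.2 ⟨((Over.pullback f).map j).left p, hcon, ?_⟩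
    exact congr($(bc_map_fst f j) p)
  exact ⟨R, _, WeilRes.IsWeilRes.of_representableBy e⟩

/-- Existence of Weil restrictions when finite sets of points over one point of the base lie in affine opens. -/
theorem exists_isWeilRes_of_finite
    (hX : ∀ (s : S) (P : Set X'.left), P.Finite → (∀ x ∈ P, f (X'.hom x) = s) →
      ∃ (V : S.Opens) (U : X'.left.Opens), IsAffineOpen V ∧ IsAffineOpen U ∧ s ∈ V ∧
        (∀ x ∈ U, f (X'.hom x) ∈ V) ∧ P ⊆ U) :
    ∃ (R : Over S) (q : Red.bc f R ⟶ X'), WeilRes.IsWeilRes f X' R q := by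
  refine exists_isWeilRes f X' fun T z t => ?_
  obtain ⟨V, U, hV, hU, hs, hUV, hPU⟩ := hX (T.hom t) (z.left '' (pullback.fst T.hom f ⁻¹' {t}))
    ((IsFinite.finite_preimage_singleton (pullback.fst T.hom f) t).image _) (by
      rintro _ ⟨p, hp, rfl⟩
      have h1 : X'.hom (z.left p) = pullback.snd T.hom f p := congr($(Over.w z) p)
      have h2 : T.hom (pullback.fst T.hom f p) = f (pullback.snd T.hom f p) :=
        congr($(pullback.condition (f := T.hom) (g := f)) p)
      rw [h1, ← h2]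
      exact congrArg T.hom hp)
  exact ⟨V, U, hV, hU, hs, hUV, fun p hp => hPU ⟨p, hp, rfl⟩⟩

end Groth.Agent.WeilExist

end
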